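import Groth.Agent.CompDerived.EdgeOut
import Groth.Agent.QCohBase.CohProps
import Mathlib.CategoryTheory.Abelian.DiagramLemmas.KernelCokernelComp

/-!
# Coherence of derived functors of composites
-/

noncomputable section

universe u

open CategoryTheory Limits AlgebraicGeometry

namespace Groth.Agent.CompDerived

section coh

variable {S : Scheme.{u}} [IsLocallyNoetherian S]

/-- Extensions of coherent modules are coherent. -/
theorem isCoh_extension {T : ShortComplex S.Modules} (hT : T.ShortExact) (h₁ : Coh.IsCoh T.X₁)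
    (h₃ : Coh.IsCoh T.X₃) : Coh.IsCoh T.X₂ := by
  have h₂ : T.X₂.IsQuasicoherent := QCohBase.isQuasicoherent_of_extension hT h₁.1 h₃.1
  refine (QCohBase.isCoh_iff _).2 ⟨h₂, fun U hU => ?_⟩
  haveI := QCohBase.isFiniteType_toFinite h₁ hU
  haveI := QCohBase.isFiniteType_toFinite h₃ hU
  haveI := hT.mono_f
  haveI := hT.epi_g
  refine ⟨Submodule.fg_of_fg_map_of_fg_inf_ker (QCohBase.appL T.g U) ?_ ?_⟩
  · rw [Submodule.map_top, show LinearMap.range (QCohBase.appL T.g U) = ⊤ from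
      LinearMap.range_eq_top.2 (QCohBase.app_surjective_of_epi T.g h₂ h₃.1 hU)]
    exact Module.Finite.fg_top
  · rw [top_inf_eq]
    have hk : LinearMap.ker (QCohBase.appL T.g U) = LinearMap.range (QCohBase.appL T.f U) := by
      refine le_antisymm (fun x hx => QCohBase.sections_exact_left hT.exact x hx) ?_
      rintro _ ⟨a, rfl⟩
      show T.g.app U (T.f.app U a) = 0
      rw [← ConcreteCategory.comp_apply, ← Scheme.Modules.Hom.comp_app, T.zero]
      rfl
    rw [hk, ← Submodule.map_top]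
    exact Module.Finite.fg_top.map _

/-- The middle of a five term exact sequence with coherent terms. -/
theorem isCoh_five {A B C D E : S.Modules} (a : A ⟶ B) (b : B ⟶ C) (c : C ⟶ D)
    (d : D ⟶ E) (w₁ : a ≫ b = 0) (w₂ : b ≫ c = 0) (w₃ : c ≫ d = 0)
    (h₁ : (ShortComplex.mk a b w₁).Exact) (h₂ : (ShortComplex.mk b c w₂).Exact)
    (h₃ : (ShortComplex.mk c d w₃).Exact)
    (hA : Coh.IsCoh A) (hB : Coh.IsCoh B) (hD : Coh.IsCoh D)
    (hE : Coh.IsCoh E) : Coh.IsCoh C := by
  let f : cokernel a ⟶ C := cokernel.desc a b w₁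
  let g : C ⟶ kernel d := kernel.lift d c w₃
  haveI : Mono f := ShortComplex.Exact.mono_cokernelDesc h₁
  haveI : Epi g := ShortComplex.Exact.epi_kernelLift h₃
  have hw : f ≫ g = 0 := by
    rw [← cancel_epi (cokernel.π a), ← cancel_mono (kernel.ι d)]
    simp [f, g, w₂]
  refine isCoh_extension (T := ShortComplex.mk f g hw) ⟨?_⟩ (QCohBase.isCoh_cokernel a hA.1 hB)
    (QCohBase.isCoh_kernel d hD hE.1)
  have hbg : b ≫ g = 0 := by rw [← cancel_mono (kernel.ι d)]; simp [g, w₂]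
  let φ : ShortComplex.mk b g hbg ⟶ ShortComplex.mk b c w₂ :=
    { τ₁ := 𝟙 _
      τ₂ := 𝟙 _
      τ₃ := kernel.ι d
      comm₂₃ := by simp [g] }
  let ψ : ShortComplex.mk b g hbg ⟶ ShortComplex.mk f g hw :=
    { τ₁ := cokernel.π a
      τ₂ := 𝟙 _
      τ₃ := 𝟙 _
      comm₁₂ := by simp [f] }
  haveI : Epi φ.τ₁ := inferInstanceAs (Epi (𝟙 B))
  haveI : IsIso φ.τ₂ := inferInstanceAs (IsIso (𝟙 C))
  haveI : Mono φ.τ₃ := inferInstanceAs (Mono (kernel.ι d))
  haveI : Epi ψ.τ₁ := inferInstanceAs (Epi (cokernel.π a))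
  haveI : IsIso ψ.τ₂ := inferInstanceAs (IsIso (𝟙 C))
  haveI : Mono ψ.τ₃ := inferInstanceAs (Mono (𝟙 (kernel d)))
  exact (ShortComplex.exact_iff_of_epi_of_isIso_of_mono ψ).1
    ((ShortComplex.exact_iff_of_epi_of_isIso_of_mono φ).2 h₂)

lemma isCoh_of_iso' {M N : S.Modules} (e : M ≅ N) (h : Coh.IsCoh M) : Coh.IsCoh N :=
  QCohBase.isCoh_of_epi e.hom h ((SheafOfModules.isQuasicoherent S.ringCatSheaf).prop_of_iso e h.1)

lemma isCoh_of_isZero' {M : S.Modules} (h : IsZero M) (N : S.Modules) (hN : Coh.IsCoh N) : Coh.IsCoh M :=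
  isCoh_of_iso' ((isZero_cokernel_of_epi (𝟙 N)).iso h) (QCohBase.isCoh_cokernel (𝟙 N) hN.1 hN)

end coh

section comp

variable {S : Scheme.{u}} [IsLocallyNoetherian S] {B : Type*} [Category B] [Abelian B]
  [HasInjectiveResolutions B] (Ψ : B ⥤ S.Modules) [Ψ.Additive] [PreservesFiniteLimits Ψ]
  (K : CochainComplex B ℕ) (hK : ∀ i k, IsZero ((Ψ.rightDerived (k + 1)).obj (K.X i)))

include hK in
lemma isCoh_rightDerived_cycles_bdry (n : ℕ)
    (hH : ∀ i ≤ n, ∀ p, Coh.IsCoh ((Ψ.rightDerived p).obj (K.homology i))) :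
    ∀ i ≤ n, (∀ p, Coh.IsCoh ((Ψ.rightDerived (p + 1)).obj (bdry K i))) ∧
      ∀ p, Coh.IsCoh ((Ψ.rightDerived (p + 1)).obj (K.cycles i)) := by
  intro i
  have Δ := RDerLES.derivedLES Ψ
  induction i with
  | zero =>
    intro hi
    have hb : ∀ p, Coh.IsCoh ((Ψ.rightDerived (p + 1)).obj (bdry K 0)) := fun p =>
      isCoh_of_isZero' ((Ψ.rightDerived (p + 1)).map_isZero (isZero_bdry_zero K)) _ (hH 0 hi 0)
    exact ⟨hb, fun p => isCoh_five _ _ _ _ _ _ _ (Δ.exact₁ _ (cyclesSeq_shortExact K 0) p (p + 1) rfl)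
      (Δ.exact₂ _ (cyclesSeq_shortExact K 0) (p + 1))
      (Δ.exact₃ _ (cyclesSeq_shortExact K 0) (p + 1) (p + 2) rfl)
      (hH 0 hi p) (hb p) (hH 0 hi (p + 1)) (hb (p + 1))⟩
  | succ i ih =>
    intro hi
    have hb : ∀ p, Coh.IsCoh ((Ψ.rightDerived (p + 1)).obj (bdry K (i + 1))) := fun p => by
      obtain ⟨e⟩ := nonempty_shiftIso Ψ (bdrySeq_shortExact K i) (hK i) p
      exact isCoh_of_iso' e.symm ((ih (by omega)).2 (p + 1))
    exact ⟨hb, fun p => isCoh_five _ _ _ _ _ _ _ (Δ.exact₁ _ (cyclesSeq_shortExact K (i + 1)) p (p + 1) rfl)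
      (Δ.exact₂ _ (cyclesSeq_shortExact K (i + 1)) (p + 1))
      (Δ.exact₃ _ (cyclesSeq_shortExact K (i + 1)) (p + 1) (p + 2) rfl)
      (hH _ hi p) (hb p) (hH _ hi (p + 1)) (hb (p + 1))⟩

include hK in
/-- Homology after applying a functor, from the derived functors of the homology. -/
theorem isCoh_homology_map (i : ℕ)
    (hH : ∀ j ≤ i, ∀ p, Coh.IsCoh ((Ψ.rightDerived p).obj (K.homology j))) :
    Coh.IsCoh (((Ψ.mapHomologicalComplex (ComplexShape.up ℕ)).obj K).homology i) := by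
  let L := (Ψ.mapHomologicalComplex (ComplexShape.up ℕ)).obj K
  have Δ := RDerLES.derivedLES Ψ
  haveI := isIso_cyclesComparison Ψ K i
  let c := RDer.cyclesComparison Ψ K i
  let j := (ComplexShape.up ℕ).prev i
  let a := Ψ.map (toBdry K j i)
  let b := Ψ.map (kernel.ι (K.homologyπ i))
  have hcb := isCoh_rightDerived_cycles_bdry Ψ K hK i hH
  have ha : Coh.IsCoh (cokernel a) := by
    cases i with
    | zero =>
      haveI : Epi a := ⟨fun g h _ => ((Ψ.map_isZero (isZero_bdry_zero K)).eq_of_src g h)⟩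
      exact isCoh_of_isZero' (isZero_cokernel_of_epi a) _ (hH 0 le_rfl 0)
    | succ n =>
      have hj : j = n := by simp [j]
      obtain ⟨e⟩ := nonempty_cokernelIso Ψ (bdrySeq_shortExact K n) (hK n)
      have hc : Coh.IsCoh (cokernel (Ψ.map (toBdry K n (n + 1)))) :=
        isCoh_of_iso' e.symm ((hcb n (Nat.le_succ n)).2 0)
      exact Eq.rec (motive := fun m _ => Coh.IsCoh (cokernel (Ψ.map (toBdry K m (n + 1))))) hc hj.symm
  have hb : Coh.IsCoh (cokernel b) := by
    let hse := cyclesSeq_shortExact K i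
    let f' := (Ψ.rightDerived 0).map (kernel.ι (K.homologyπ i))
    let g' := (Ψ.rightDerived 0).map (K.homologyπ i)
    let δ' := Δ.δ _ hse 0 1 rfl
    let q : cokernel f' ⟶ kernel δ' := cokernel.desc f' (kernel.lift δ' g' (Δ.comp_δ _ hse 0 1 rfl))
      (by rw [← cancel_mono (kernel.ι δ'), Category.assoc, kernel.lift_ι, ← Functor.map_comp,
        kernel.condition, Functor.map_zero, zero_comp])
    haveI : Epi (kernel.lift δ' g' (Δ.comp_δ _ hse 0 1 rfl)) := (Δ.exact₃ _ hse 0 1 rfl).epi_kernelLift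
    haveI : Mono (cokernel.desc f' g' (by rw [← Functor.map_comp, kernel.condition, Functor.map_zero])) :=
      (Δ.exact₂ _ hse 0).mono_cokernelDesc
    haveI : Epi q := epi_of_epi_fac (cokernel.π_desc _ _ _)
    haveI : Mono q := by
      have : q ≫ kernel.ι δ' = cokernel.desc f' g'
          (by rw [← Functor.map_comp, kernel.condition, Functor.map_zero]) := by
        rw [← cancel_epi (cokernel.π f')]; simp [q]
      exact mono_of_mono_fac this
    haveI : IsIso q := isIso_of_mono_of_epi q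
    have hk : Coh.IsCoh (cokernel f') := isCoh_of_iso' (asIso q).symm
      (QCohBase.isCoh_kernel δ' (hH i le_rfl 0) ((hcb i le_rfl).1 0).1)
    exact isCoh_of_iso' (cokernel.mapIso f' b (Ψ.rightDerivedZeroIsoSelf.app _) (Ψ.rightDerivedZeroIsoSelf.app _)
      (Ψ.rightDerivedZeroIsoSelf.hom.naturality _)) hk
  haveI : Mono b := inferInstanceAs (Mono (Ψ.map _))
  have hab : Coh.IsCoh (cokernel (a ≫ b)) := by
    have hex := kernelCokernelCompSequence_exact a b
    haveI hm : Mono (cokernel.map a (a ≫ b) (𝟙 _) b (by simp)) :=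
      (hex.exact 2).mono_g ((isZero_kernel_of_mono b).eq_of_src _ _)
    haveI he : Epi (cokernel.map (a ≫ b) b a (𝟙 _) (by simp)) := by
      apply epi_of_epi_fac (f := cokernel.π (a ≫ b)) (h := cokernel.π b)
      simp
    exact isCoh_extension (T := ShortComplex.mk (cokernel.map a (a ≫ b) (𝟙 _) b (by simp))
      (cokernel.map (a ≫ b) b a (𝟙 _) (by simp)) (hex.toIsComplex.zero 3))
      { exact := hex.exact 3, mono_f := hm, epi_g := he } ha hb
  have hfac : (a ≫ b) = L.toCycles j i ≫ c := by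
    rw [RDer.toCycles_cyclesComparison, ← toBdry_ι, Functor.map_comp]
  refine isCoh_of_iso' ?_ hab
  exact cokernel.mapIso (a ≫ b) (L.toCycles j i) (Iso.refl _) (asIso c).symm
      (by simp [hfac]; exact (Category.id_comp _).symm) ≪≫
    (cokernelIsCokernel _).coconePointUniqueUpToIso (L.homologyIsCokernel j i rfl)

end comp

end Groth.Agent.CompDerived
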