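import Groth.Agent.CompDerived.Basic
import Groth.Agent.FlasqueAcyclic.Compare
import Groth.Agent.RPushQCoh.Qcoh

/-!
# Sheaf cohomology as a derived functor; degenerate Leray
-/

noncomputable section

universe u

open CategoryTheory Limits TopologicalSpace Opposite AlgebraicGeometry

namespace Groth.Agent.CompDerived

open QCohBase QCohBase.CovSystem

section Top

variable (X : TopCat.{u})

/-- Global sections of abelian sheaves. -/
abbrev globalSections : AbSheaf X ⥤ AddCommGrpCat.{u} :=
  (sheafSections (Opens.grothendieckTopology X) AddCommGrpCat.{u}).obj (op ⊤)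

instance : (globalSections X).Additive where

instance : PreservesFiniteLimits (globalSections X) :=
  inferInstanceAs (PreservesFiniteLimits (sheafToPresheaf (Opens.grothendieckTopology X)
    AddCommGrpCat.{u} ⋙ (evaluation (Opens X)ᵒᵖ AddCommGrpCat.{u}).obj (op ⊤)))

variable {X}

/-- Sheaf cohomology is the derived functor of global sections. -/
theorem nonempty_H_equiv : ∀ (q : ℕ) (F : AbSheaf X),
    Nonempty (HTop F q ≃+ ((globalSections X).rightDerived q).obj F) := by
  intro q
  induction q with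
  | zero => exact fun F => ⟨(hZero F).trans
      ((globalSections X).rightDerivedZeroIsoSelf.app F).addCommGroupIsoToAddEquiv.symm⟩
  | succ p ih =>
    intro F
    have hT := injSeq_shortExact F
    have h₂ : ∀ k, IsZero (((globalSections X).rightDerived (k + 1)).obj (injSeq F).X₂) :=
      fun k => (globalSections X).isZero_rightDerived_obj_injective_succ k _
    cases p with
    | zero =>
      obtain ⟨π, w, hπ, hex⟩ := exists_cokernel (globalSections X) hT h₂
      let ψ : (injSeq F).X₃.obj.obj (op ⊤) →+ HTop F 1 :=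
        (hDelta hT 0).comp (hZero _).symm.toAddMonoidHom
      have hψ : Function.Surjective ψ := (hDelta_surjective hT 0).comp (hZero _).symm.surjective
      have hker : ψ.ker = π.hom.ker := by
        ext s
        rw [AddMonoidHom.mem_ker, AddMonoidHom.mem_ker]
        refine (hDelta_zero_iff hT s).trans ⟨?_, fun h => ?_⟩
        · rintro ⟨t, rfl⟩
          exact congrArg (fun φ => (AddCommGrpCat.Hom.hom φ) t) w
        · exact (ShortComplex.ab_exact_iff _).1 hex s h
      exact ⟨((QuotientAddGroup.quotientKerEquivOfSurjective ψ hψ).symm.trans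
        (QuotientAddGroup.quotientAddEquivOfEq hker)).trans
        (QuotientAddGroup.quotientKerEquivOfSurjective π.hom
          ((AddCommGrpCat.epi_iff_surjective π).1 hπ))⟩
    | succ k =>
      obtain ⟨e⟩ := ih (injSeq F).X₃
      obtain ⟨e'⟩ := nonempty_shiftIso (globalSections X) hT h₂ k
      exact ⟨(AddEquiv.ofBijective (hDelta hT (k + 1))
        ⟨hDelta_injective hT k, hDelta_surjective hT (k + 1)⟩).symm.trans
        (e.trans e'.addCommGroupIsoToAddEquiv)⟩

lemma isZero_globalSections_of_subsingleton (F : AbSheaf X) (q : ℕ)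
    (h : Subsingleton (HTop F q)) : IsZero (((globalSections X).rightDerived q).obj F) := by
  obtain ⟨e⟩ := nonempty_H_equiv q F
  haveI : Subsingleton (((globalSections X).rightDerived q).obj F) := e.symm.subsingleton
  exact AddCommGrpCat.isZero_of_subsingleton _

end Top

variable {X Y Z : Scheme.{u}}

instance (f : X ⟶ Y) : PreservesFiniteLimits (Coh.pushAb f) :=
  inferInstanceAs (PreservesFiniteLimits (QCohBase.pushSh f.base))

lemma isFlasque_pushAb (f : X ⟶ Y) (J : AbSheaf X.toTopCat) (hJ : Injective J) :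
    TopCat.Sheaf.IsFlasque (X := Y.toTopCat) ((Coh.pushAb f).obj J) :=
  haveI := @FlasqueAcyclic.isFlasque_of_injective _ J hJ
  TopCat.Sheaf.IsFlasque.pushforward_isFlasque J f.base

lemma isZero_RpushAb_pushAb (f : X ⟶ Y) (g : Y ⟶ Z) (J : AbSheaf X.toTopCat) (hJ : Injective J)
    (k : ℕ) : IsZero ((Coh.RpushAb g (k + 1)).obj ((Coh.pushAb f).obj J)) :=
  haveI := isFlasque_pushAb f J hJ
  FlasqueAcyclic.isZero_rightDerived_push_of_isFlasque g.base _ k

lemma isZero_RpushAb_affine (f : X ⟶ Y) [IsAffineHom f] (M : X.Modules) [Coh.IsQCoh M] (k : ℕ) :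
    IsZero ((Coh.RpushAb f (k + 1)).obj (Coh.toAb M)) :=
  isZero_rightDerived_push (S := affineSystem X) f.base {V | IsAffineOpen V}
    Y.isBasis_affineOpens (fun _ hV => IsAffineOpen.preimage hV f) (acyclic_of_isQCoh M) k

/-- Leray for an affine first map. -/
theorem nonempty_Rpush_comp_of_affine_left (f : X ⟶ Y) (g : Y ⟶ Z) [IsAffineHom f]
    (F : X.Modules) [Coh.IsQCoh F] (p : ℕ) :
    Nonempty ((Coh.RpushAb g p).obj (Coh.toAb ((Coh.push f).obj F)) ≅
      (Coh.RpushAb (f ≫ g) p).obj (Coh.toAb F)) :=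
  nonempty_comp_iso_of_acyclic (Coh.pushAb f) (Coh.pushAb g)
    (fun J hJ k => isZero_RpushAb_pushAb f g J hJ k) p (Coh.toAb F)
    (fun j => isZero_RpushAb_affine f F j)

/-- Leray for an affine second map. -/
theorem nonempty_Rpush_comp_of_affine_right (f : X ⟶ Y) (g : Y ⟶ Z) [QuasiCompact f]
    [QuasiSeparated f] [IsAffineHom g] (F : X.Modules) [Coh.IsQCoh F] (p : ℕ) :
    Nonempty ((Coh.RpushAb (f ≫ g) p).obj (Coh.toAb F) ≅
      (Coh.pushAb g).obj ((Coh.RpushAb f p).obj (Coh.toAb F))) :=
  nonempty_comp_iso (Coh.pushAb f) (Coh.pushAb g)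
    (fun J hJ k => isZero_RpushAb_pushAb f g J hJ k) p (Coh.toAb F) fun j k => by
    obtain ⟨e⟩ := FlasqueAcyclic.nonempty_toAb_Rpush_iso f F j
    haveI : Coh.IsQCoh ((Coh.Rpush f j).obj F) := RPushQCoh.isQCoh_Rpush f F ‹_› j
    exact (isZero_RpushAb_affine g ((Coh.Rpush f j).obj F) k).of_iso
      ((Coh.RpushAb g (k + 1)).mapIso e.symm)

/-- Cohomology is global sections of the higher direct image to an affine scheme. -/
theorem nonempty_HH_equiv_sections (f : X ⟶ Y) [QuasiCompact f] [QuasiSeparated f] [IsAffine Y]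
    (F : X.Modules) [Coh.IsQCoh F] (q : ℕ) :
    Nonempty (Coh.HH X F q ≃+ ↑(((Coh.RpushAb f q).obj (Coh.toAb F)).obj.obj (op ⊤))) := by
  obtain ⟨e⟩ := nonempty_comp_iso (Coh.pushAb f) (globalSections Y.toTopCat)
    (fun J hJ k => by
      haveI := isFlasque_pushAb f J hJ
      exact isZero_globalSections_of_subsingleton _ (k + 1)
        (FlasqueAcyclic.subsingleton_H_of_isFlasque _ k))
    q (Coh.toAb F) (fun j k => by
      obtain ⟨e⟩ := FlasqueAcyclic.nonempty_toAb_Rpush_iso f F j
      haveI : Coh.IsQCoh ((Coh.Rpush f j).obj F) := RPushQCoh.isQCoh_Rpush f F ‹_› j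
      exact (isZero_globalSections_of_subsingleton (Coh.toAb ((Coh.Rpush f j).obj F)) (k + 1)
        (subsingleton_HH_of_isAffine _ k.succ_pos)).of_iso
        (((globalSections Y.toTopCat).rightDerived (k + 1)).mapIso e.symm))
  obtain ⟨e'⟩ := nonempty_H_equiv q (Coh.toAb F)
  exact ⟨e'.trans e.addCommGroupIsoToAddEquiv⟩

end Groth.Agent.CompDerived
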