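import Groth.Agent.RDerLES.LES
import Mathlib.CategoryTheory.Abelian.Exact

/-!
# Derived functors of a composition, degenerate cases
-/

noncomputable section

universe v₁ u₁ v₂ u₂ v₃ u₃

open CategoryTheory Limits

namespace Groth.Agent.CompDerived

variable {A : Type u₁} [Category.{v₁} A] [Abelian A] [HasInjectiveResolutions A]
  {B : Type u₂} [Category.{v₂} B] [Abelian B]

/-- An injective presentation. -/
def pres (X : A) : ShortComplex A :=
  ShortComplex.mk (RDerLES.aug (injectiveResolution X)) (cokernel.π (RDerLES.aug (injectiveResolution X)))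
    (cokernel.condition _)

lemma pres_shortExact (X : A) : (pres X).ShortExact where
  exact := ShortComplex.exact_cokernel _
  mono_f := by dsimp [pres]; infer_instance
  epi_g := by dsimp [pres]; infer_instance

lemma pres_injective (X : A) : Injective (pres X).X₂ := (injectiveResolution X).injective 0

variable (F : A ⥤ B) [F.Additive]

lemma pres_acyclic (X : A) (k : ℕ) : IsZero ((F.rightDerived (k + 1)).obj (pres X).X₂) :=
  haveI := pres_injective X
  F.isZero_rightDerived_obj_injective_succ k _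

section

variable {S : ShortComplex A} (hS : S.ShortExact)
  (h₂ : ∀ k, IsZero ((F.rightDerived (k + 1)).obj S.X₂))

include hS h₂ in
/-- Dimension shifting. -/
lemma nonempty_shiftIso (k : ℕ) :
    Nonempty ((F.rightDerived (k + 1)).obj S.X₃ ≅ (F.rightDerived (k + 2)).obj S.X₁) := by
  have Δ := RDerLES.derivedLES F
  haveI : Mono (Δ.δ S hS (k + 1) (k + 2) rfl) :=
    (Δ.exact₃ S hS (k + 1) (k + 2) rfl).mono_g ((h₂ k).eq_of_src _ _)
  haveI : Epi (Δ.δ S hS (k + 1) (k + 2) rfl) :=
    (Δ.exact₁ S hS (k + 1) (k + 2) rfl).epi_f ((h₂ (k + 1)).eq_of_tgt _ _)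
  haveI := isIso_of_mono_of_epi (Δ.δ S hS (k + 1) (k + 2) rfl)
  exact ⟨asIso (Δ.δ S hS (k + 1) (k + 2) rfl)⟩

variable [PreservesFiniteLimits F]

include hS h₂ in
/-- `R¹` is the cokernel in degree zero. -/
lemma exists_cokernel :
    ∃ (π : F.obj S.X₃ ⟶ (F.rightDerived 1).obj S.X₁) (w : F.map S.g ≫ π = 0),
      Epi π ∧ (ShortComplex.mk _ _ w).Exact := by
  have Δ := RDerLES.derivedLES F
  let e := F.rightDerivedZeroIsoSelf
  have w : F.map S.g ≫ e.inv.app S.X₃ ≫ Δ.δ S hS 0 1 rfl = 0 := by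
    rw [NatTrans.naturality_assoc, Δ.comp_δ, comp_zero]
  haveI : Epi (Δ.δ S hS 0 1 rfl) :=
    (Δ.exact₁ S hS 0 1 rfl).epi_f ((h₂ 0).eq_of_tgt _ _)
  refine ⟨_, w, inferInstance, (ShortComplex.exact_iff_of_iso ?_).1 (Δ.exact₃ S hS 0 1 rfl)⟩
  refine ShortComplex.isoMk (e.app S.X₂) (e.app S.X₃) (Iso.refl _) ?_ ?_
  · exact (e.hom.naturality S.g).symm
  · simp

include hS h₂ in
/-- `R¹` is isomorphic to the cokernel in degree zero. -/
lemma nonempty_cokernelIso : Nonempty (cokernel (F.map S.g) ≅ (F.rightDerived 1).obj S.X₁) := by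
  obtain ⟨π, w, _, hπ⟩ := exists_cokernel F hS h₂
  haveI : Epi (ShortComplex.mk _ _ w).g := ‹Epi π›
  exact ⟨(cokernelIsCokernel _).coconePointUniqueUpToIso hπ.gIsCokernel⟩

include hS in
/-- Left exact functors are exact on sequences whose kernel has no `R¹`. -/
lemma shortExact_map (h₁ : IsZero ((F.rightDerived 1).obj S.X₁)) : (S.map F).ShortExact := by
  have Δ := RDerLES.derivedLES F
  let e := F.rightDerivedZeroIsoSelf
  haveI := hS.mono_f
  haveI : Epi ((F.rightDerived 0).map S.g) :=
    (Δ.exact₃ S hS 0 1 rfl).epi_f (h₁.eq_of_tgt _ _)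
  have hg : F.map S.g = e.inv.app _ ≫ (F.rightDerived 0).map S.g ≫ e.hom.app _ := by
    rw [e.hom.naturality, Iso.inv_hom_id_app_assoc]
  haveI : Epi (F.map S.g) := by rw [hg]; infer_instance
  exact
    { exact := ShortComplex.exact_of_f_is_kernel _
        (KernelFork.mapIsLimit _ hS.fIsKernel F)
      mono_f := inferInstanceAs (Mono (F.map S.f))
      epi_g := ‹_› }

end

variable [HasInjectiveResolutions B] {C : Type u₃} [Category.{v₃} C] [Abelian C]
  (G : B ⥤ C) [G.Additive] [PreservesFiniteLimits F] [PreservesFiniteLimits G]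
  (hI : ∀ J : A, Injective J → ∀ k, IsZero ((G.rightDerived (k + 1)).obj (F.obj J)))

include hI in
/-- If `X` has no higher `RF`, then `R(G ∘ F) X = RG (F X)`. -/
theorem nonempty_comp_iso_of_acyclic : ∀ (p : ℕ) (X : A),
    (∀ j, IsZero ((F.rightDerived (j + 1)).obj X)) →
      Nonempty ((G.rightDerived p).obj (F.obj X) ≅ ((F ⋙ G).rightDerived p).obj X) := by
  haveI := comp_preservesFiniteLimits F G
  intro p
  induction p with
  | zero => exact fun X _ => ⟨G.rightDerivedZeroIsoSelf.app _ ≪≫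
      ((F ⋙ G).rightDerivedZeroIsoSelf.app X).symm⟩
  | succ p ih =>
    intro X hX
    have hS := pres_shortExact X
    have hSF := shortExact_map F hS (hX 0)
    have h₂ : ∀ k, IsZero ((G.rightDerived (k + 1)).obj ((pres X).map F).X₂) :=
      hI _ (pres_injective X)
    cases p with
    | zero =>
      obtain ⟨e₁⟩ := nonempty_cokernelIso G hSF h₂
      obtain ⟨e₂⟩ := nonempty_cokernelIso (F ⋙ G) hS (pres_acyclic (F ⋙ G) X)
      exact ⟨e₁.symm ≪≫ e₂⟩
    | succ q =>
      obtain ⟨e₁⟩ := nonempty_shiftIso G hSF h₂ q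
      obtain ⟨e₂⟩ := nonempty_shiftIso (F ⋙ G) hS (pres_acyclic (F ⋙ G) X) q
      obtain ⟨e₃⟩ := ih (pres X).X₃ fun j => by
        obtain ⟨e⟩ := nonempty_shiftIso F hS (pres_acyclic F X) j
        exact (hX (j + 1)).of_iso e
      exact ⟨e₁.symm ≪≫ e₃ ≪≫ e₂⟩

include hI in
/-- If all `RF X` are `G`-acyclic, then `R(G ∘ F) X = G (RF X)`. -/
theorem nonempty_comp_iso : ∀ (p : ℕ) (X : A),
    (∀ j k, IsZero ((G.rightDerived (k + 1)).obj ((F.rightDerived j).obj X))) →
      Nonempty (((F ⋙ G).rightDerived p).obj X ≅ G.obj ((F.rightDerived p).obj X)) := by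
  haveI := comp_preservesFiniteLimits F G
  intro p
  induction p with
  | zero => exact fun X _ => ⟨(F ⋙ G).rightDerivedZeroIsoSelf.app X ≪≫
      (G.mapIso (F.rightDerivedZeroIsoSelf.app X)).symm⟩
  | succ p ih =>
    intro X hX
    have hS := pres_shortExact X
    have ΔG := RDerLES.derivedLES G
    obtain ⟨π, w, hπ, hex⟩ := exists_cokernel F hS (pres_acyclic F X)
    let S₁ : ShortComplex B := ShortComplex.mk (kernel.ι π) π (kernel.condition π)
    have hS₁ : S₁.ShortExact :=
      { exact := ShortComplex.exact_of_f_is_kernel _ (kernelIsKernel π)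
        mono_f := inferInstanceAs (Mono (kernel.ι π)), epi_g := hπ }
    let q : F.obj (pres X).X₂ ⟶ kernel π := kernel.lift π _ w
    haveI : Epi q := (ShortComplex.mk _ _ w).exact_iff_epi_kernel_lift.1 hex
    have wq : F.map (pres X).f ≫ q = 0 := by
      rw [← cancel_mono (kernel.ι π), Category.assoc, kernel.lift_ι, ← F.map_comp, (pres X).zero,
        F.map_zero, zero_comp]
    let S₀ : ShortComplex B := ShortComplex.mk _ _ wq
    haveI := hS.mono_f
    have hS₀ : S₀.ShortExact :=
      { exact := by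
          let φ : S₀ ⟶ (pres X).map F :=
            ⟨𝟙 _, 𝟙 _, kernel.ι π, (Category.id_comp _).trans (Category.comp_id _).symm,
              (Category.id_comp _).trans (kernel.lift_ι π _ w).symm⟩
          haveI : Epi φ.τ₁ := inferInstanceAs (Epi (𝟙 _))
          haveI : IsIso φ.τ₂ := inferInstanceAs (IsIso (𝟙 _))
          haveI : Mono φ.τ₃ := inferInstanceAs (Mono (kernel.ι π))
          exact (ShortComplex.exact_iff_of_epi_of_isIso_of_mono φ).2
            (ShortComplex.exact_of_f_is_kernel _ (KernelFork.mapIsLimit _ hS.fIsKernel F))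
        mono_f := inferInstanceAs (Mono (F.map (pres X).f)), epi_g := ‹Epi q› }
    have hFX : ∀ k, IsZero ((G.rightDerived (k + 1)).obj (F.obj X)) := fun k =>
      (hX 0 k).of_iso ((G.rightDerived (k + 1)).mapIso (F.rightDerivedZeroIsoSelf.app X).symm)
    have hB : ∀ k, IsZero ((G.rightDerived (k + 1)).obj (kernel π)) := fun k => by
      obtain ⟨e⟩ := nonempty_shiftIso G hS₀ (hI _ (pres_injective X)) k
      exact (hFX (k + 1)).of_iso e
    cases p with
    | zero =>
      have h₀ := shortExact_map G hS₀ (hFX 0)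
      have h₁ := shortExact_map G hS₁ (hB 0)
      obtain ⟨e₂⟩ := nonempty_cokernelIso (F ⋙ G) hS (pres_acyclic (F ⋙ G) X)
      have w' : G.map (F.map (pres X).g) ≫ G.map π = 0 := by
        rw [← G.map_comp, w, G.map_zero]
      have hex' : (ShortComplex.mk _ _ w').Exact := by
        let φ : ShortComplex.mk _ _ w' ⟶ S₁.map G :=
          ⟨G.map q, 𝟙 _, 𝟙 _,
            ((G.map_comp q (kernel.ι π)).symm.trans (congrArg G.map (kernel.lift_ι π _ w))).trans
              (Category.comp_id _).symm,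
            (Category.id_comp _).trans (Category.comp_id _).symm⟩
        haveI : Epi φ.τ₁ := h₀.epi_g
        haveI : IsIso φ.τ₂ := inferInstanceAs (IsIso (𝟙 _))
        haveI : Mono φ.τ₃ := inferInstanceAs (Mono (𝟙 _))
        exact (ShortComplex.exact_iff_of_epi_of_isIso_of_mono φ).2 h₁.exact
      haveI : Epi (ShortComplex.mk _ _ w').g := h₁.epi_g
      exact ⟨e₂.symm ≪≫ (cokernelIsCokernel _).coconePointUniqueUpToIso hex'.gIsCokernel⟩
    | succ q' =>
      obtain ⟨e₂⟩ := nonempty_shiftIso (F ⋙ G) hS (pres_acyclic (F ⋙ G) X) q'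
      obtain ⟨e₃⟩ := ih (pres X).X₃ fun j k => by
        cases j with
        | zero =>
          refine IsZero.of_iso ?_ ((G.rightDerived (k + 1)).mapIso
            (F.rightDerivedZeroIsoSelf.app (pres X).X₃))
          exact (ΔG.exact₂ S₁ hS₁ (k + 1)).isZero_of_both_zeros
            ((hB k).eq_of_src _ _) ((hX 1 k).eq_of_tgt _ _)
        | succ j =>
          obtain ⟨e⟩ := nonempty_shiftIso F hS (pres_acyclic F X) j
          exact (hX (j + 2) k).of_iso ((G.rightDerived (k + 1)).mapIso e)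
      obtain ⟨e₄⟩ := nonempty_shiftIso F hS (pres_acyclic F X) q'
      exact ⟨e₂.symm ≪≫ e₃ ≪≫ G.mapIso e₄⟩

end Groth.Agent.CompDerived
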