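import Groth.Agent.CompDerived.Basic
import Groth.Prelude.Def_RDer

/-!
# The first edge morphism, degenerate case
-/

noncomputable section

universe v₁ v₂ v₃ u₁ u₂ u₃

open CategoryTheory Limits

namespace Groth.Agent.CompDerived

set_option backward.isDefEq.respectTransparency.types false

variable {A : Type u₁} [Category.{v₁} A] [Abelian A] [HasInjectiveResolutions A]
  {B : Type u₂} [Category.{v₂} B] [Abelian B] [HasInjectiveResolutions B]
  {C : Type u₃} [Category.{v₃} C] [Abelian C]
  (Φ : A ⥤ B) [Φ.Additive] [PreservesFiniteLimits Φ]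

omit [HasInjectiveResolutions B] in
theorem quasiIso_mapAug (X : A) (hX : ∀ k, IsZero ((Φ.rightDerived (k + 1)).obj X)) :
    QuasiIso (RDer.mapAug Φ (injectiveResolution X).ι) := by
  let I := injectiveResolution X
  haveI : ∀ n, QuasiIsoAt ((Φ.mapHomologicalComplex (ComplexShape.up ℕ)).map I.ι) n := fun n => by
    cases n with
    | zero =>
      rw [CochainComplex.quasiIsoAt₀_iff, ShortComplex.quasiIso_iff_of_zeros]
      · let S := ShortComplex.mk (I.ι.f 0) (I.cocomplex.d 0 1) I.ι_f_zero_comp_complex_d
        have hker := KernelFork.mapIsLimit _ I.isLimitKernelFork Φ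
        refine (ShortComplex.exact_and_mono_f_iff_of_iso ?_).2
          (⟨ShortComplex.exact_of_f_is_kernel (S.map Φ) hker,
            (Φ.map_mono S.f : Mono (Φ.map S.f))⟩ : (S.map Φ).Exact ∧ Mono (S.map Φ).f)
        exact ShortComplex.isoMk (Iso.refl _) (Iso.refl _) (Iso.refl _)
          ((Category.id_comp _).trans (Category.comp_id _).symm)
          ((Category.id_comp _).trans (Category.comp_id _).symm)
      · exact (congrArg Φ.map ((CochainComplex.single₀ A).obj X |>.shape 0 0 (by simp))).trans (Φ.map_zero _ _)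
      · exact (congrArg Φ.map ((HomologicalComplex.isZero_single_obj_X _ _ _ _ (by simp)).eq_of_tgt _ 0)).trans (Φ.map_zero _ _)
      · exact (congrArg Φ.map (HomologicalComplex.shape _ 0 0 (by simp))).trans (Φ.map_zero _ _)
    | succ n =>
      have h1 : ((Φ.mapHomologicalComplex _).obj ((CochainComplex.single₀ A).obj X)).ExactAt (n + 1) :=
        HomologicalComplex.ExactAt.of_isZero (Φ.map_isZero (HomologicalComplex.isZero_single_obj_X _ _ _ _ (by simp)))
      rw [quasiIsoAt_iff_exactAt _ _ h1, HomologicalComplex.exactAt_iff_isZero_homology]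
      exact (hX n).of_iso (I.isoRightDerivedObj Φ (n + 1)).symm
  haveI : QuasiIso ((Φ.mapHomologicalComplex (ComplexShape.up ℕ)).map I.ι) := ⟨this⟩
  infer_instance

variable [Φ.PreservesInjectiveObjects] (Ψ : B ⥤ C) [Ψ.Additive]

/-- If `X` has no higher derived functors of `Φ`, the first edge morphism is an isomorphism. -/
theorem isIso_edgeIn (q : ℕ) (X : A) (hX : ∀ k, IsZero ((Φ.rightDerived (k + 1)).obj X)) :
    IsIso (RDer.edgeIn Φ Ψ q X) := by
  let I := injectiveResolution X
  let J := injectiveResolution (Φ.obj X)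
  let J' : InjectiveResolution (Φ.obj X) :=
    { cocomplex := (Φ.mapHomologicalComplex _).obj I.cocomplex
      injective := fun n => Φ.injective_obj (I.cocomplex.X n)
      ι := RDer.mapAug Φ I.ι
      quasiIso := quasiIso_mapAug Φ X hX }
  let d : J.cocomplex ⟶ J'.cocomplex := RDer.descToInjectives (𝟙 (Φ.obj X)) J.cocomplex J.ι
    ((Φ.mapHomologicalComplex _).obj I.cocomplex) (RDer.mapAug Φ I.ι)
  let e := InjectiveResolution.homotopyEquiv J J'
  have hd : J.ι ≫ d = (CochainComplex.single₀ B).map (𝟙 (Φ.obj X)) ≫ J'.ι := by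
    rw [CategoryTheory.Functor.map_id, Category.id_comp]
    refine HomologicalComplex.from_single_hom_ext ?_
    rw [HomologicalComplex.comp_f]
    exact (RDer.ι_descToInjectives_f_zero (𝟙 (Φ.obj X)) J.cocomplex J.ι
      ((Φ.mapHomologicalComplex _).obj I.cocomplex) (RDer.mapAug Φ I.ι)).trans (Category.id_comp _)
  have he : J.ι ≫ e.hom = (CochainComplex.single₀ B).map (𝟙 (Φ.obj X)) ≫ J'.ι := by
    rw [CategoryTheory.Functor.map_id, Category.id_comp]
    exact InjectiveResolution.homotopyEquiv_hom_ι J J'
  let h := InjectiveResolution.descHomotopy (𝟙 (Φ.obj X)) d e.hom hd he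
  have key : (HomologicalComplex.homologyFunctor C _ q).map ((Ψ.mapHomologicalComplex _).map d) =
      ((Ψ.mapHomotopyEquiv e).toHomologyIso q).hom :=
    (Ψ.mapHomotopy h).homologyMap_eq q
  haveI : IsIso ((HomologicalComplex.homologyFunctor C _ q).map ((Ψ.mapHomologicalComplex _).map d)) := by
    rw [key]; infer_instance
  exact IsIso.comp_isIso' inferInstance (IsIso.comp_isIso' ‹_› inferInstance)

end Groth.Agent.CompDerived
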