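import Groth.Agent.CompDerived.Basic
import Groth.Prelude.Def_RDer

/-!
# Degenerate edge morphisms
-/

noncomputable section

universe v₁ v₂ v₃ u₁ u₂ u₃

open CategoryTheory Limits

namespace Groth.Agent.CompDerived

variable {B : Type u₂} [Category.{v₂} B] [Abelian B] [HasInjectiveResolutions B]
  {C : Type u₃} [Category.{v₃} C] [Abelian C]
  (Ψ : B ⥤ C) [Ψ.Additive] [PreservesFiniteLimits Ψ] (K : CochainComplex B ℕ)

/-- The boundaries. -/
abbrev bdry (i : ℕ) : B := kernel (K.homologyπ i)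

lemma toCycles_π (j i : ℕ) : K.toCycles j i ≫ K.homologyπ i = 0 := K.toCycles_comp_homologyπ j i

lemma cyclesSeq_shortExact (i : ℕ) :
    (ShortComplex.mk (kernel.ι (K.homologyπ i)) (K.homologyπ i) (kernel.condition _)).ShortExact :=
  { exact := ShortComplex.exact_of_f_is_kernel _ (kernelIsKernel _)
    mono_f := inferInstanceAs (Mono (kernel.ι (K.homologyπ i)))
    epi_g := inferInstanceAs (Epi (K.homologyπ i)) }

/-- The projection to boundaries. -/
def toBdry (j i : ℕ) : K.X j ⟶ bdry K i := kernel.lift _ (K.toCycles j i) (toCycles_π K j i)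

lemma toBdry_ι (j i : ℕ) : toBdry K j i ≫ kernel.ι (K.homologyπ i) = K.toCycles j i :=
  kernel.lift_ι _ _ _

lemma epi_toBdry (j i : ℕ) (h : (ComplexShape.up ℕ).prev i = j) : Epi (toBdry K j i) :=
  (ShortComplex.exact_iff_epi_kernel_lift (ShortComplex.mk _ _ (toCycles_π K j i))).1
    (ShortComplex.exact_of_g_is_cokernel _ (K.homologyIsCokernel j i h))

lemma iCycles_toBdry (i : ℕ) : K.iCycles i ≫ toBdry K i (i + 1) = 0 := by
  rw [← cancel_mono (kernel.ι (K.homologyπ (i + 1))), Category.assoc, toBdry_ι, zero_comp,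
    ← cancel_mono (K.iCycles (i + 1)), Category.assoc, K.toCycles_i, K.iCycles_d, zero_comp]

lemma bdrySeq_shortExact (i : ℕ) :
    (ShortComplex.mk (K.iCycles i) (toBdry K i (i + 1)) (iCycles_toBdry K i)).ShortExact := by
  haveI := epi_toBdry K i (i + 1) (by simp)
  refine { exact := ShortComplex.exact_of_f_is_kernel _ ?_
           mono_f := inferInstanceAs (Mono (K.iCycles i))
           epi_g := inferInstanceAs (Epi (toBdry K i (i + 1))) }
  have hk : IsLimit (KernelFork.ofι (K.iCycles i) (K.iCycles_d i (i + 1))) :=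
    K.cyclesIsKernel i (i + 1) (by simp)
  have hw : ∀ {W : B} (a : W ⟶ K.X i), a ≫ toBdry K i (i + 1) = 0 → a ≫ K.d i (i + 1) = 0 :=
    fun {W} a ha => by
      rw [← K.toCycles_i i (i + 1), ← toBdry_ι K i (i + 1)]
      simp only [← Category.assoc, ha, zero_comp]
  exact KernelFork.IsLimit.ofι _ _ (fun {W} a ha => hk.lift (KernelFork.ofι a (hw a ha)))
    (fun {W} a ha => hk.fac (KernelFork.ofι a (hw a ha)) WalkingParallelPair.zero)
    (fun {W} a ha b hb => by
      rw [← cancel_mono (K.iCycles i), hb]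
      exact (hk.fac (KernelFork.ofι a (hw a ha)) WalkingParallelPair.zero).symm)

lemma isZero_bdry_zero : IsZero (bdry K 0) := by
  haveI := epi_toBdry K 0 0 (by simp)
  refine IsZero.of_epi_eq_zero (toBdry K 0 0) ?_
  rw [← cancel_mono (kernel.ι (K.homologyπ 0)), toBdry_ι, zero_comp, ← cancel_mono (K.iCycles 0),
    K.toCycles_i, zero_comp, K.shape 0 0 (by simp)]

variable (hK : ∀ i k, IsZero ((Ψ.rightDerived (k + 1)).obj (K.X i)))
  (hH : ∀ i k, IsZero ((Ψ.rightDerived (k + 1)).obj (K.homology i)))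

include hH in
lemma acyclic_cycles (i : ℕ) (hB : ∀ k, IsZero ((Ψ.rightDerived (k + 1)).obj (bdry K i))) (k : ℕ) :
    IsZero ((Ψ.rightDerived (k + 1)).obj (K.cycles i)) :=
  ((RDerLES.derivedLES Ψ).exact₂ _ (cyclesSeq_shortExact K i) (k + 1)).isZero_X₂
    ((hB k).eq_of_src _ _) ((hH i k).eq_of_tgt _ _)

include hK hH in
lemma acyclic_bdry : ∀ (i k : ℕ), IsZero ((Ψ.rightDerived (k + 1)).obj (bdry K i))
  | 0, k => (Ψ.rightDerived (k + 1)).map_isZero (isZero_bdry_zero K)
  | i + 1, k => by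
    obtain ⟨e⟩ := nonempty_shiftIso Ψ (bdrySeq_shortExact K i) (hK i) k
    exact (acyclic_cycles Ψ K hH i (acyclic_bdry i) (k + 1)).of_iso e

lemma isIso_cyclesComparison (i : ℕ) : IsIso (RDer.cyclesComparison Ψ K i) := by
  let L := (Ψ.mapHomologicalComplex (ComplexShape.up ℕ)).obj K
  have hL : IsLimit (KernelFork.ofι (L.iCycles i) (L.iCycles_d i ((ComplexShape.up ℕ).next i))) :=
    L.cyclesIsKernel i _ rfl
  let g := hL.lift (KernelFork.ofι (Ψ.map (K.iCycles i))
    (show Ψ.map (K.iCycles i) ≫ Ψ.map (K.d i ((ComplexShape.up ℕ).next i)) = 0 by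
      rw [← Ψ.map_comp, K.iCycles_d, Ψ.map_zero]))
  have hg : g ≫ L.iCycles i = Ψ.map (K.iCycles i) := hL.fac _ WalkingParallelPair.zero
  refine ⟨g, ?_, ?_⟩
  · exact (cancel_mono (L.iCycles i)).1 ((Category.assoc _ _ _).trans
      ((congrArg (fun t => RDer.cyclesComparison Ψ K i ≫ t) hg).trans
        ((RDer.cyclesComparison_i Ψ K i).trans (Category.id_comp _).symm)))
  · exact (cancel_mono (Ψ.map (K.iCycles i))).1 ((Category.assoc _ _ _).trans
      ((congrArg (fun t => g ≫ t) (RDer.cyclesComparison_i Ψ K i)).trans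
        (hg.trans (Category.id_comp _).symm)))

include hK hH in
/-- The comparison of homology is an isomorphism for acyclic terms and homology. -/
theorem isIso_homologyComparison (i : ℕ) : IsIso (RDer.homologyComparison Ψ K i) := by
  let L := (Ψ.mapHomologicalComplex (ComplexShape.up ℕ)).obj K
  let j := (ComplexShape.up ℕ).prev i
  have hse := shortExact_map Ψ (cyclesSeq_shortExact K i) (acyclic_bdry Ψ K hK hH i 0)
  haveI : Epi (Ψ.map (K.homologyπ i)) := hse.epi_g
  haveI hep : Epi (Ψ.map (toBdry K j i)) := by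
    cases i with
    | zero =>
      exact ⟨fun g h _ => ((Ψ.map_isZero (isZero_bdry_zero K)).eq_of_src g h)⟩
    | succ n =>
      have hj : j = n := by simp [j]
      rw [hj]
      exact (shortExact_map Ψ (bdrySeq_shortExact K n)
        (acyclic_cycles Ψ K hH n (acyclic_bdry Ψ K hK hH n) 0)).epi_g
  haveI := isIso_cyclesComparison Ψ K i
  let c := RDer.cyclesComparison Ψ K i
  have hz : Ψ.map (kernel.ι (K.homologyπ i)) ≫ inv c ≫ L.homologyπ i = 0 := by
    rw [← cancel_epi (Ψ.map (toBdry K j i)), comp_zero, ← Category.assoc, ← Ψ.map_comp, toBdry_ι,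
      ← RDer.toCycles_cyclesComparison Ψ K i]
    exact (Category.assoc _ _ _).trans ((congrArg (fun t => L.toCycles _ i ≫ t)
      (IsIso.hom_inv_id_assoc c (L.homologyπ i))).trans (L.toCycles_comp_homologyπ _ _))
  have hc : IsColimit (CokernelCofork.ofπ (Ψ.map (K.homologyπ i))
      (show Ψ.map (kernel.ι (K.homologyπ i)) ≫ Ψ.map (K.homologyπ i) = 0 by
        rw [← Ψ.map_comp, kernel.condition, Ψ.map_zero])) := hse.gIsCokernel
  let g := hc.desc (CokernelCofork.ofπ (inv c ≫ L.homologyπ i) hz)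
  have hg : Ψ.map (K.homologyπ i) ≫ g = inv c ≫ L.homologyπ i := hc.fac _ WalkingParallelPair.one
  refine ⟨g, ?_, ?_⟩
  · rw [← cancel_epi (L.homologyπ i), RDer.homologyπ_homologyComparison_assoc, hg, IsIso.hom_inv_id_assoc,
      Category.comp_id]
  · rw [← cancel_epi (Ψ.map (K.homologyπ i)), ← Category.assoc, hg, Category.assoc,
      RDer.homologyπ_homologyComparison, IsIso.inv_hom_id_assoc, Category.comp_id]

variable {A : Type u₁} [Category.{v₁} A] [Abelian A] [HasInjectiveResolutions A] (Φ : A ⥤ B) [Φ.Additive]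

/-- If the higher derived functors of `Φ X` are `Ψ`-acyclic the edge map is an isomorphism. -/
theorem isIso_edgeOut (hI : ∀ J : A, Injective J → ∀ k, IsZero ((Ψ.rightDerived (k + 1)).obj (Φ.obj J)))
    (q : ℕ) (X : A) (hX : ∀ j k, IsZero ((Ψ.rightDerived (k + 1)).obj ((Φ.rightDerived j).obj X))) :
    IsIso (RDer.edgeOut Φ Ψ q X) := by
  haveI := isIso_homologyComparison Ψ ((Φ.mapHomologicalComplex _).obj (injectiveResolution X).cocomplex)
    (fun i k => hI _ ((injectiveResolution X).injective i) k)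
    (fun i k => (hX i k).of_iso
      ((Ψ.rightDerived (k + 1)).mapIso ((injectiveResolution X).isoRightDerivedObj Φ i).symm)) q
  exact IsIso.comp_isIso' inferInstance (IsIso.comp_isIso' ‹_› inferInstance)

end Groth.Agent.CompDerived
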